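import Cfsg.Agent.Mod.SmallSl2
import Cfsg.Agent.Mod.Reduce
import Cfsg.Agent.Blk.SylowSC
import Cfsg.Agent.Grp.PSL2Rec

/-! Groups of type `L₂(p)` from small modules. -/

set_option autoImplicit false
set_option linter.unusedSectionVars false

namespace Cfsg

universe u v w

variable {G : Type u} [Group G] [Finite G] {p : ℕ} [hp : Fact p.Prime]

theorem mem_sylow_of_mem_sylN {P : Sylow p G} {g : G} (hg : g ∈ sylN P) (h : g ^ p = 1) :
    g ∈ (P : Subgroup G) := by
  refine mem_of_pElement_of_not_dvd_relIndex (p := p) le_rfl (fun h1 => P.not_dvd_index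
    (h1.trans (Subgroup.relIndex_dvd_index_of_le Subgroup.le_normalizer))) hg ?_
  obtain ⟨k, -, hk⟩ := (Nat.dvd_prime_pow hp.out).1 (orderOf_dvd_of_pow_eq_one (n := p ^ 1)
    (by rw [pow_one, h]))
  exact ⟨k, hk⟩

theorem sylow_eq_one_of_smul_eq {P : Sylow p G} (hP : Nat.card P = p) {u : G}
    (hu : u ∈ (P : Subgroup G)) {γ : G ⧸ sylN P} (hγ : γ ≠ basePt _) (h : u • γ = γ) : u = 1 := by
  by_contra hu1
  induction γ using QuotientGroup.induction_on with
  | H x =>
    rw [smul_mk_eq_iff] at h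
    refine hγ (mk_eq_basePt_iff.2 (mem_normalizer_of_conj_mem_of_card_prime hP hu hu1
      (mem_sylow_of_mem_sylN h ?_)))
    have := conj_pow (a := x⁻¹) (b := u) (i := p)
    rw [inv_inv] at this
    rw [this, ← orderOf_eq_of_card_prime hP hu hu1, pow_orderOf_eq_one, mul_one, inv_mul_cancel]

theorem exists_hom_sylN {P : Sylow p G} (hP : Nat.card P = p) : ∃ φ : sylN P →* (ZMod p)ˣ,
    φ.ker = (Subgroup.centralizer ((P : Subgroup G) : Set G)).subgroupOf (sylN P) := by
  have hP' : Nat.card (P : Subgroup G) = p := hP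
  exact exists_hom_units_of_cyclic (T := sylN P) P.isPGroup'
    (isCyclic_of_prime_card hP') (by
      intro h
      rw [h, Subgroup.card_bot] at hP'
      exact hp.out.ne_one hP'.symm) le_rfl (fun h1 => P.not_dvd_index (h1.trans
        ((Subgroup.relIndex_dvd_index_of_le (Subgroup.centralizer_le_normalizer _)).trans
          (Subgroup.index_dvd_of_le (le_centralizer_of_card_prime hP')))))

theorem conj_pow_iterate {n u : G} {j : ℕ} (h : n * u * n⁻¹ = u ^ j) (f : ℕ) :
    n ^ f * u * (n ^ f)⁻¹ = u ^ j ^ f := by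
  induction f with
  | zero => simp
  | succ f ih =>
    rw [pow_succ' n, show n * n ^ f * u * (n * n ^ f)⁻¹ = n * (n ^ f * u * (n ^ f)⁻¹) * n⁻¹ by group,
      ih, ← conj_pow, h, ← pow_mul, pow_succ']

theorem autIdx_dvd_of_forall {P : Sylow p G} (hP : Nat.card P = p) {u : G}
    (hu : u ∈ (P : Subgroup G)) (hu1 : u ≠ 1) {f : ℕ}
    (h : ∀ j : ℕ, IsConj u (u ^ j) → j ^ f ≡ 1 [MOD p]) : autIdx (P : Subgroup G) ∣ f := by
  obtain ⟨φ, hφ⟩ := exists_hom_sylN hP
  have hou := orderOf_eq_of_card_prime hP hu hu1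
  rw [autIdx, Subgroup.relIndex, ← hφ, Subgroup.index_ker, ← IsCyclic.exponent_eq_card]
  refine Monoid.exponent_dvd_of_forall_pow_eq_one ?_
  rintro ⟨_, n, rfl⟩
  refine Subtype.ext ?_
  have h5 := (eq_zpowers_of_card_prime hP hu hu1).le ((Subgroup.mem_normalizer_iff.1 n.2 u).1 hu)
  rw [← mem_powers_iff_mem_zpowers] at h5
  obtain ⟨j, hj⟩ := h5
  have h1 := conj_pow_iterate hj.symm f
  rw [pow_eq_pow_of_modEq_of_pow_eq_one (hou ▸ pow_orderOf_eq_one u)
    (h j (isConj_iff.2 ⟨n, hj.symm⟩)), pow_one, mul_inv_eq_iff_eq_mul] at h1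
  have h2 : n ^ f ∈ φ.ker := by
    rw [hφ, Subgroup.mem_subgroupOf, ← centralizer_singleton_of_card_prime hP hu hu1,
      Subgroup.mem_centralizer_singleton_iff]
    exact h1
  simpa using h2

theorem pow_autIdx_modEq {P : Sylow p G} (hP : Nat.card P = p) {u : G}
    (hu : u ∈ (P : Subgroup G)) (hu1 : u ≠ 1) (j : ℕ) (h : IsConj u (u ^ j)) :
    j ^ autIdx (P : Subgroup G) ≡ 1 [MOD p] := by
  obtain ⟨φ, hφ⟩ := exists_hom_sylN hP
  obtain ⟨n, hn⟩ := isConj_iff.1 h
  have h1 : n ∈ sylN P := by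
    rw [← Subgroup.inv_mem_iff]
    exact mem_normalizer_of_conj_mem_of_card_prime hP hu hu1
      (by rw [inv_inv, hn]; exact Subgroup.pow_mem _ hu _)
  have h2 := φ.ker.pow_index_mem ⟨n, h1⟩
  rw [hφ, Subgroup.mem_subgroupOf] at h2
  have h3 := conj_pow_iterate hn (autIdx (P : Subgroup G))
  have h4 : u * n ^ autIdx (P : Subgroup G) = n ^ autIdx (P : Subgroup G) * u := h2 u hu
  rw [← h4, mul_inv_cancel_right] at h3
  have h5 := pow_eq_pow_iff_modEq.1 (h3.symm.trans (pow_one u).symm)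
  rwa [orderOf_eq_of_card_prime hP hu hu1] at h5

theorem ker_le_centralizer_sylow {P : Sylow p G} (hP : Nat.card P = p)
    (hnn : ¬ (P : Subgroup G).Normal) : (MulAction.toPermHom G (G ⧸ sylN P)).ker ≤
      Subgroup.centralizer ((P : Subgroup G) : Set G) := by
  obtain ⟨x, hx⟩ : ∃ x, x ∉ sylN P := by
    by_contra! h
    exact hnn (Subgroup.normalizer_eq_top_iff.1 ((Subgroup.eq_top_iff' _).2 h))
  intro k hk a ha
  have h1 : ∀ γ : G ⧸ sylN P, k • γ = γ := fun γ => DFunLike.congr_fun (MonoidHom.mem_ker.1 hk) γ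
  have h2 := sylow_eq_one_of_smul_eq hP (Subgroup.mul_mem _ (Subgroup.inv_mem _ ha)
    ((Subgroup.mem_normalizer_iff.1 (smul_basePt_eq_iff.1 (h1 _)) a).1 ha))
    (mt mk_eq_basePt_iff.1 hx) (by
      rw [mul_smul, mul_smul, mul_smul, inv_smul_eq_iff.2 (h1 _).symm, h1, inv_smul_smul])
  rwa [inv_mul_eq_one, eq_mul_inv_iff_mul_eq] at h2

namespace SmallMod

variable {V : Type w} [AddCommGroup V] [Module (ZMod p) V] {ρ : G →* Module.End (ZMod p) V}
  {P : Sylow p G} {u : G} {m : ℕ} (H : SmallMod ρ P u m)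
include H

theorem exists_smul_eq {β γ : G ⧸ sylN P} (hβ : β ≠ basePt _) (hγ : γ ≠ basePt _) :
    ∃ a ∈ (P : Subgroup G), a • β = γ := by
  induction β using QuotientGroup.induction_on with
  | H x =>
    induction γ using QuotientGroup.induction_on with
    | H y =>
      obtain ⟨s, hs⟩ := H.exists_pow_mul_mem (fun c => ⟨c.val, (ZMod.natCast_zmod_val c).symm⟩)
        (mt mk_eq_basePt_iff.2 hγ) (mt mk_eq_basePt_iff.2 hβ)
      exact ⟨u ^ s, Subgroup.pow_mem _ H.mem s, (QuotientGroup.eq.2 hs).symm⟩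

theorem index_eq (hnn : ¬ (P : Subgroup G).Normal) : (sylN P).index = p + 1 := by
  obtain ⟨x, hx⟩ : ∃ x, x ∉ sylN P := by
    by_contra! h
    exact hnn (Subgroup.normalizer_eq_top_iff.1 ((Subgroup.eq_top_iff' _).2 h))
  have hβ : (x : G ⧸ sylN P) ≠ basePt _ := mt mk_eq_basePt_iff.1 hx
  rw [Subgroup.index_eq_card, ← card_subtype_ne_add_one (basePt (sylN P)), add_left_inj]
  refine Eq.trans (Nat.card_eq_of_bijective (fun a : (P : Subgroup G) =>
    (⟨(a : G) • (x : G ⧸ sylN P), fun h => hβ (by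
      rw [← inv_smul_smul (a : G) (x : G ⧸ sylN P), h]
      exact smul_basePt_eq_iff.2 (Subgroup.le_normalizer (Subgroup.inv_mem _ a.2)))⟩ :
      {γ : G ⧸ sylN P // γ ≠ basePt _})) ⟨fun a b h => ?_, fun γ => ?_⟩).symm H.card
  · have h1 : (a : G) • (x : G ⧸ sylN P) = (b : G) • (x : G ⧸ sylN P) := congrArg Subtype.val h
    have h2 := sylow_eq_one_of_smul_eq H.card (Subgroup.mul_mem _ (Subgroup.inv_mem _ b.2) a.2) hβ
      (by rw [mul_smul, h1, inv_smul_smul])
    exact Subtype.ext (inv_mul_eq_one.1 h2).symm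
  · obtain ⟨a, ha, h⟩ := H.exists_smul_eq hβ γ.2
    exact ⟨⟨a, ha⟩, Subtype.ext h⟩

theorem mem_ker {β : G ⧸ sylN P} (hβ : β ≠ basePt _) {c : G}
    (hc : c ∈ Subgroup.centralizer ((P : Subgroup G) : Set G)) (h : c • β = β) :
    c ∈ (MulAction.toPermHom G (G ⧸ sylN P)).ker := by
  refine MonoidHom.mem_ker.2 (Equiv.ext fun γ => ?_)
  show c • γ = γ
  by_cases hγ : γ = basePt _
  · rw [hγ]
    exact smul_basePt_eq_iff.2 (Subgroup.centralizer_le_normalizer _ hc)
  · obtain ⟨a, ha, rfl⟩ := H.exists_smul_eq hβ hγ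
    rw [← mul_smul, ← hc a ha, mul_smul, h]

theorem mul_self_mem_ker {β : G ⧸ sylN P} (hβ : β ≠ basePt _) {w : G} (h1 : w • basePt _ = β)
    (h2 : w • β = basePt _) : w * w ∈ (MulAction.toPermHom G (G ⧸ sylN P)).ker := by
  refine H.mem_ker hβ ?_ (by rw [mul_smul, h2, h1])
  rw [← centralizer_singleton_of_card_prime H.card H.mem H.ne,
    Subgroup.mem_centralizer_singleton_iff]
  exact H.commute_of_swap (fun h => hβ (h1.symm.trans (smul_basePt_eq_iff.2 h)))
    (smul_basePt_eq_iff.1 (by rw [mul_smul, h1, h2]))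

theorem psl2 (hnn : ¬ (P : Subgroup G).Normal) (hq : 2 * autIdx (P : Subgroup G) + 1 = p) :
    Nonempty (G ⧸ (MulAction.toPermHom G (G ⧸ sylN P)).ker ≃*
      Matrix.ProjectiveSpecialLinearGroup (Fin 2) (ZMod p)) := by
  obtain ⟨x, hx⟩ : ∃ x, x ∉ sylN P := by
    by_contra! h
    exact hnn (Subgroup.normalizer_eq_top_iff.1 ((Subgroup.eq_top_iff' _).2 h))
  have hβ : (x : G ⧸ sylN P) ≠ basePt _ := mt mk_eq_basePt_iff.1 hx
  obtain ⟨v, hv, h⟩ := H.exists_smul_eq (β := ((x⁻¹ : G) : G ⧸ sylN P))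
    (mt mk_eq_basePt_iff.1 (mt (Subgroup.inv_mem_iff _).1 hx)) hβ
  have hw1 : (v * x⁻¹) • basePt (sylN P) = x := by
    rw [mul_smul, ← h, MulAction.Quotient.smul_mk, smul_eq_mul, mul_one]
  have hw2 : (v * x⁻¹) • (x : G ⧸ sylN P) = basePt (sylN P) := by
    rw [mul_smul, MulAction.Quotient.smul_mk, smul_eq_mul, inv_mul_cancel]
    exact smul_basePt_eq_iff.2 (Subgroup.le_normalizer hv)
  generalize v * x⁻¹ = w at hw1 hw2
  generalize (x : G ⧸ sylN P) = β at hβ hw1 hw2
  set f := (MulAction.toPermHom G (G ⧸ sylN P)).rangeRestrict with hf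
  have hfs : Function.Surjective f := MonoidHom.rangeRestrict_surjective _
  have hfk : f.ker = (MulAction.toPermHom G (G ⧸ sylN P)).ker := MonoidHom.ker_rangeRestrict _
  have hfa : ∀ (g : G) (γ : G ⧸ sylN P), f g • γ = g • γ := fun _ _ => rfl
  have hsq : ∀ w : G, w • basePt _ = β → w • β = basePt _ → f w * f w = 1 := fun w h1 h2 => by
    rw [← map_mul, ← MonoidHom.mem_ker, hfk]
    exact H.mul_self_mem_ker hβ h1 h2
  have huβ : u • β ≠ β := fun h => H.ne (sylow_eq_one_of_smul_eq H.card H.mem hβ h)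
  have : Finite (MulAction.toPermHom G (G ⧸ sylN P)).range := Finite.of_surjective f hfs
  obtain ⟨e⟩ := nonempty_mulEquiv_psl2 (G := (MulAction.toPermHom G (G ⧸ sylN P)).range) (p := p)
    (by have := H.five_le; omega) (Ω := G ⧸ sylN P) (α := basePt _) (β := β) (u := f u) (w := f w)
    (by rw [← Subgroup.index_eq_card, H.index_eq hnn])
    (orderOf_eq_prime (by rw [← map_pow, H.pow_eq, map_one]) fun h => huβ (by
      rw [← hfa, h, one_smul]))
    (smul_basePt_eq_iff.2 (Subgroup.le_normalizer H.mem)) huβ (fun g hg _ => by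
      obtain ⟨g, rfl⟩ := hfs g
      obtain ⟨j, hj, -⟩ := H.semi (smul_basePt_eq_iff.1 hg)
      rw [← map_inv, ← map_mul, ← map_mul, hj, map_pow]
      exact Subgroup.pow_mem _ (Subgroup.mem_zpowers _) _) (by
      refine Eq.trans ?_ hq
      congr 2
      set S := MulAction.stabilizer G (basePt (sylN P)) ⊓ MulAction.stabilizer G β with hS
      have hSN : S ≤ sylN P := fun g hg => smul_basePt_eq_iff.1 hg.1
      have h1 : MulAction.stabilizer (MulAction.toPermHom G (G ⧸ sylN P)).range (basePt (sylN P)) ⊓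
          MulAction.stabilizer (MulAction.toPermHom G (G ⧸ sylN P)).range β = S.map f := by
        ext g
        obtain ⟨g, rfl⟩ := hfs g
        refine ⟨fun h => Subgroup.mem_map_of_mem _ h, ?_⟩
        rintro ⟨a, ha, h⟩
        exact h ▸ ha
      have h2 : f.ker ⊓ S = Subgroup.centralizer ((P : Subgroup G) : Set G) ⊓ S := by
        rw [hfk]
        exact le_antisymm (inf_le_inf_right _ (ker_le_centralizer_sylow H.card hnn))
          fun c hc => ⟨H.mem_ker hβ hc.1 hc.2.2, hc.2⟩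
      obtain ⟨φ, hφ⟩ := exists_hom_sylN H.card
      have h3 : (S.subgroupOf (sylN P)).map φ = (⊤ : Subgroup (sylN P)).map φ := by
        refine le_antisymm (Subgroup.map_mono le_top) ?_
        rintro _ ⟨n, -, rfl⟩
        obtain ⟨a, ha, h⟩ := H.exists_smul_eq hβ (γ := (n : G)⁻¹ • β) fun h => hβ (by
          rw [← smul_inv_smul (n : G) β, h]
          exact smul_basePt_eq_iff.2 n.2)
        refine ⟨n * ⟨a, Subgroup.le_normalizer ha⟩, ⟨smul_basePt_eq_iff.2 (Subgroup.mul_mem _ n.2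
          (Subgroup.le_normalizer ha)), ?_⟩, ?_⟩
        · show (n * a : G) • β = β
          rw [mul_smul, h, smul_inv_smul]
        · have h4 : (⟨a, Subgroup.le_normalizer ha⟩ : sylN P) ∈ φ.ker := by
            rw [hφ]
            exact le_centralizer_of_card_prime H.card ha
          rw [map_mul, h4, mul_one]
      rw [h1, ← Subgroup.relIndex_ker, ← Subgroup.inf_relIndex_right, h2,
        Subgroup.inf_relIndex_right, ← Subgroup.relIndex_subgroupOf hSN, ← hφ,
        Subgroup.relIndex_ker, h3, ← Subgroup.relIndex_ker, Subgroup.relIndex_top_right, hφ]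
      rfl) hw1 (hsq w hw1 hw2) (fun y hy1 hy2 => by
      obtain ⟨y, rfl⟩ := hfs y
      have h1 := hsq (w * y) (by rw [mul_smul, ← hfa y, hy1, hw1]) (by
        rw [mul_smul, ← hfa y, hy2, hw2])
      rw [map_mul, ← mul_assoc] at h1
      exact eq_inv_of_mul_eq_one_left h1)
  exact ⟨(QuotientGroup.quotientKerEquivRange _).trans e⟩

end SmallMod

/-- restriction of scalars to the prime field -/
def zmodEndHom (p : ℕ) [Fact p.Prime] (F : Type v) [Field F] (V : Type w) [AddCommGroup V]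
    [Module F V] [Module (ZMod p) V] : Module.End F V →+* Module.End (ZMod p) V where
  toFun a := a.toAddMonoidHom.toZModLinearMap p
  map_one' := rfl
  map_mul' _ _ := rfl
  map_zero' := rfl
  map_add' _ _ := rfl

theorem SmallMod.zmod {F : Type v} [Field F] [CharP F p] {V : Type w} [AddCommGroup V]
    [Module F V] [Module (ZMod p) V] {ρ : G →* Module.End F V} {P : Sylow p G} {u : G} {m : ℕ}
    (H : SmallMod ρ P u m) : SmallMod ((zmodEndHom p F V).toMonoidHom.comp ρ) P u m := by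
  refine ⟨fun a b h => H.inj (LinearMap.ext fun z => LinearMap.congr_fun h z), H.card, H.mem, H.ne,
    ?_, H.lt⟩
  have := congrArg (zmodEndHom p F V) H.nil
  rwa [map_pow, map_sub, map_one, map_zero] at this

theorem SmallMod.exists_zmod {F : Type v} [Field F] [CharP F p] {V : Type w} [AddCommGroup V]
    [Module F V] {ρ : G →* Module.End F V} {P : Sylow p G} {u : G} {m : ℕ}
    (H : SmallMod ρ P u m) : ∃ (_ : Module (ZMod p) V) (ρ' : G →* Module.End (ZMod p) V),
      SmallMod ρ' P u m := by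
  obtain ⟨i⟩ : Nonempty (Module (ZMod p) V) := ⟨AddCommGroup.zmodModule fun x => by
    rw [← Nat.cast_smul_eq_nsmul F, CharP.cast_eq_zero, zero_smul]⟩
  exact ⟨i, _, H.zmod⟩

theorem IsCharacter.exists_smallMod {χ : G → ℂ} (hχ : IsCharacter G χ)
    (hfaith : ∀ g : G, χ g = χ 1 → g = 1) (hd : 2 * charDegree χ < p) {P : Sylow p G}
    (hP : Nat.card P = p) (hnn : ¬ (P : Subgroup G).Normal) {u : G} (hu : u ∈ (P : Subgroup G))
    (hu1 : u ≠ 1) : ∃ (V : Type) (_ : AddCommGroup V) (_ : Module (ZMod p) V)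
      (ρ : G →* Module.End (ZMod p) V), SmallMod ρ P u (charDegree χ) := by
  obtain ⟨M, hM⟩ := exists_isPModular hp.out
  have := hM.charP
  obtain ⟨ρ, hρ⟩ := hχ.exists_reduction M
  have hker : ρ.ker = ⊥ := by
    have h1 := hχ.isPGroup_ker_reduction hM hfaith (by omega) hρ
    by_contra h2
    have h3 := sylow_le_of_normal_of_dvd_card P hP (dvd_card_of_isPGroup_of_ne_bot h1 h2)
    exact hnn (P.is_maximal' h1 h3 ▸ inferInstance)
  have hou := orderOf_eq_of_card_prime hP hu hu1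
  have hd0 : 0 < charDegree χ := Nat.pos_of_ne_zero fun h => hu1 (hfaith u (by
    rw [hχ.eq_zero_of_one_eq_zero (by rw [hχ.one_eq_charDegree, h, Nat.cast_zero])]; rfl))
  have hnil : IsNilpotent (ρ u - 1) := by
    have : Nontrivial (Fin (charDegree χ) → resK M) := by
      have : Nonempty (Fin (charDegree χ)) := ⟨⟨0, hd0⟩⟩
      infer_instance
    have : CharP (Module.End (resK M) (Fin (charDegree χ) → resK M)) p :=
      charP_of_injective_algebraMap (algebraMap (resK M) _).injective p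
    refine ⟨p, ?_⟩
    rw [sub_pow_char_of_commute _ (Commute.one_right _), one_pow, ← map_pow,
      orderOf_dvd_iff_pow_eq_one.1 hou.dvd, map_one, sub_self]
  have hm : (ρ u - 1) ^ charDegree χ = 0 := by
    have h1 := LinearMap.aeval_self_charpoly (ρ u - 1)
    rw [hnil.charpoly_eq_X_pow_finrank, map_pow, Polynomial.aeval_X] at h1
    simpa using h1
  obtain ⟨_, ρ', H⟩ := SmallMod.exists_zmod (ρ := ρ) (P := P)
    ⟨(MonoidHom.ker_eq_bot_iff ρ).1 hker, hP, hu, hu1, hm, hd⟩
  exact ⟨_, _, _, ρ', H⟩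

/-- A faithful character of degree less than `p / 2` forces `p + 1` Sylow subgroups. -/
theorem IsCharacter.card_sylow_eq_of_small {χ : G → ℂ} (hχ : IsCharacter G χ)
    (hfaith : ∀ g : G, χ g = χ 1 → g = 1) (hd : 2 * charDegree χ < p) {P : Sylow p G}
    (hP : Nat.card P = p) (hnn : ¬ (P : Subgroup G).Normal) : Nat.card (Sylow p G) = p + 1 := by
  obtain ⟨u, hu, hu1⟩ := exists_ne_one_of_card_prime (P := (P : Subgroup G)) hP
  obtain ⟨V, _, _, ρ, H⟩ := hχ.exists_smallMod hfaith hd hP hnn hu hu1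
  exact P.card_eq_index_normalizer.trans (H.index_eq hnn)

theorem SmallMod.ker_le_center {F : Type v} [Field F] [CharP F p] {V : Type w} [AddCommGroup V]
    [Module F V] {ρ : G →* Module.End F V} {P : Sylow p G} {u : G} {m : ℕ} (H : SmallMod ρ P u m)
    (hnn : ¬ (P : Subgroup G).Normal) {χ : G → ℂ} (hχ : IsCharacter G χ)
    (hfaith : ∀ g : G, χ g = χ 1 → g = 1) (hd : 2 * charDegree χ < p) :
    (MulAction.toPermHom G (G ⧸ sylN P)).ker ≤ Subgroup.center G := by
  intro k hk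
  have hK := ker_le_centralizer_sylow H.card hnn
  set C := Subgroup.centralizer ({k} : Set G) with hC
  have hconj : ∀ g : G, ∀ a ∈ (P : Subgroup G), g * a * g⁻¹ ∈ C := by
    intro g a ha
    have h1 := hK ((MonoidHom.normal_ker _).conj_mem' k hk g) a ha
    rw [hC, Subgroup.mem_centralizer_singleton_iff]
    calc g * a * g⁻¹ * k = g * (a * (g⁻¹ * k * g)) * g⁻¹ := by group
      _ = _ := by rw [h1]; group
  have hPC : (P : Subgroup G) ≤ C := fun a ha => by simpa using hconj 1 a ha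
  have := Fintype.ofFinite C
  have hou := orderOf_eq_of_card_prime H.card H.mem H.ne
  have hχC := hχ.res C
  obtain ⟨θ, h1, h2⟩ : ∃ θ : IrrCharacter C, cmult (fun x : C => χ x) θ.1 ≠ 0 ∧
      θ.1 ⟨u, hPC H.mem⟩ ≠ θ.1 1 := by
    by_contra! h
    refine H.ne (hfaith u ?_)
    refine (hχC.eq_sum_cmult ⟨u, hPC H.mem⟩).trans (Eq.trans ?_ (hχC.eq_sum_cmult 1).symm)
    refine Finset.sum_congr rfl fun θ _ => ?_
    by_cases h1 : cmult (fun x : C => χ x) θ.1 = 0
    · simp [h1]
    · rw [h θ h1]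
  obtain ⟨f, hf0, hf, hN⟩ := θ.isCharacter.exists_exponent_automizer_le (p := p)
    (by rw [← Subgroup.orderOf_coe]; exact hou) h2
  have h3 : ¬ 2 * f + 1 < p := fun h3 => by
    have h4 := sylow_normal_of_small_module (ρ.comp C.subtype) (H.inj.comp C.subtype_injective)
      (P.subtype hPC) ((Nat.card_congr (Subgroup.subgroupOfEquivOfLe hPC).toEquiv).trans H.card)
      (u := ⟨u, hPC H.mem⟩) H.mem (fun h => H.ne (congrArg Subtype.val h)) H.nil H.lt hf0 h3 hN
    refine hnn ⟨fun a ha g => mem_sylow_of_mem_sylN ?_ ?_⟩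
    · exact (Subgroup.normal_subgroupOf_iff_le_normalizer hPC).1 h4 (hconj g a ha)
    · have h5 := pow_card_eq_one' (G := (P : Subgroup G)) (x := ⟨a, ha⟩)
      rw [show Nat.card (P : Subgroup G) = p from H.card] at h5
      rw [conj_pow, show a ^ p = 1 from congrArg Subtype.val h5, mul_one, mul_inv_cancel]
  have hdeg : charDegree (fun x : C => χ x) = charDegree χ := charDegree_congr rfl
  have h4 := hχC.eq_of_constituent_of_charDegree_eq θ ((hχC.cmult_ne_zero_iff θ.isCharacter).1 h1)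
    (by omega)
  have hkC : k ∈ C := Subgroup.mem_centralizer_singleton_iff.2 rfl
  have h5 := θ.center_le_charCenter (x := ⟨k, hkC⟩) (Subgroup.mem_center_iff.2 fun c =>
    Subtype.ext (Subgroup.mem_centralizer_singleton_iff.1 c.2))
  rw [θ.mem_charCenter, ← h4, hdeg] at h5
  refine hχ.charCenter_le_center_of_faithful ?_ (hχ.mem_charCenter.2 h5)
  rw [eq_bot_iff]
  exact fun g hg => hfaith g (hχ.mem_charKer.1 hg)

/-- **Brauer–Tuan**: a faithful character of degree less than `p / 2`. -/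
theorem IsCharacter.psl2_of_small {χ : G → ℂ} (hχ : IsCharacter G χ)
    (hfaith : ∀ g : G, χ g = χ 1 → g = 1) (hd : 2 * charDegree χ < p) {P : Sylow p G}
    (hP : Nat.card P = p) (hnn : ¬ (P : Subgroup G).Normal) :
    Nonempty (G ⧸ Subgroup.center G ≃* Matrix.ProjectiveSpecialLinearGroup (Fin 2) (ZMod p)) := by
  obtain ⟨u, hu, hu1⟩ := exists_ne_one_of_card_prime (P := (P : Subgroup G)) hP
  obtain ⟨V, _, _, ρ, H⟩ := hχ.exists_smallMod hfaith hd hP hnn hu hu1
  obtain ⟨f, hf0, hf, hN⟩ := hχ.exists_exponent_automizer_le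
    (orderOf_eq_of_card_prime hP hu hu1) fun h => hu1 (hfaith _ h)
  have h1 := Nat.le_of_dvd hf0 (autIdx_dvd_of_forall hP hu hu1 hN)
  have h2 : ¬ 2 * autIdx (P : Subgroup G) + 1 < p := fun h => hnn
    (sylow_normal_of_small_module ρ H.inj P hP hu hu1 H.nil H.lt
      (Nat.pos_of_ne_zero Subgroup.index_ne_zero_of_finite) h (pow_autIdx_modEq hP hu hu1))
  obtain ⟨e⟩ := H.psl2 hnn (by omega)
  refine ⟨(QuotientGroup.quotientMulEquivOfEq (le_antisymm (fun z hz => ?_)
    (H.ker_le_center hnn hχ hfaith hd))).trans e⟩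
  refine MonoidHom.mem_ker.2 (Equiv.ext fun γ => ?_)
  induction γ using QuotientGroup.induction_on with
  | H x =>
    refine smul_mk_eq_iff.2 ?_
    rw [Subgroup.mem_center_iff.1 hz x⁻¹, inv_mul_cancel_right]
    exact Subgroup.center_le_normalizer _ hz

end Cfsg
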