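import Cfsg.Agent.Mod.SmallDim

/-! A group with a Sylow subgroup of order `p` and a faithful module with Jordan blocks of size
less than `p / 2` has `1` or `p + 1` Sylow `p`-subgroups. -/

set_option autoImplicit false
set_option linter.unusedSectionVars false

namespace Cfsg

open Polynomial

universe u v w

section nilp
variable {F : Type v} [Field F] {A : Type w} [AddCommGroup A] [Module F A]

theorem exists_comm_end_fixed (T : Module.End F A) {x : A} (hx : T x = 0) {k : ℕ}
    (hk : x ∉ LinearMap.range (T ^ k)) :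
    ∃ (π : Module.End F A) (l : A →ₗ[F] F), l x ≠ 0 ∧ π * T = T * π ∧
      ∀ z, T z = 0 → π z = l z • x := by
  classical
  have hex : ∃ j, x ∉ LinearMap.range (T ^ j) := ⟨k, hk⟩
  have h0 : Nat.find hex ≠ 0 := fun h => by
    have := Nat.find_spec hex
    rw [h] at this
    exact this ⟨x, by simp⟩
  obtain ⟨j, hj⟩ := Nat.exists_eq_succ_of_ne_zero h0
  have h1 : x ∉ LinearMap.range (T ^ (j + 1)) := by
    have := Nat.find_spec hex
    rwa [hj] at this
  obtain ⟨y, hy⟩ : x ∈ LinearMap.range (T ^ j) := not_not.1 (Nat.find_min hex (by omega))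
  obtain ⟨l, hl, hl0⟩ := Submodule.exists_le_ker_of_notMem h1
  refine ⟨∑ i ∈ Finset.range (j + 1), (l ∘ₗ (T ^ (j - i))).smulRight ((T ^ i) y), l, hl, ?_, ?_⟩
  · ext a
    simp only [Module.End.mul_apply, LinearMap.sum_apply, LinearMap.smulRight_apply,
      LinearMap.comp_apply, map_sum, map_smul]
    rw [Finset.sum_range_succ', Finset.sum_range_succ]
    have e1 : l ((T ^ (j - 0)) (T a)) = 0 := by
      rw [← Module.End.mul_apply, ← pow_succ]; exact hl0 ⟨a, rfl⟩
    have e2 : T ((T ^ j) y) = 0 := by rw [hy, hx]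
    rw [e1, e2, zero_smul, smul_zero]
    congr 1
    refine Finset.sum_congr rfl fun i hi => ?_
    have hi' := Finset.mem_range.1 hi
    rw [← Module.End.mul_apply (T ^ (j - (i + 1))), ← pow_succ, ← Module.End.mul_apply T,
      ← pow_succ', show j - (i + 1) + 1 = j - i by omega]
  · intro z hz
    simp only [LinearMap.sum_apply, LinearMap.smulRight_apply, LinearMap.comp_apply]
    rw [Finset.sum_range_succ, Finset.sum_eq_zero, zero_add, hy]
    · simp
    · intro i hi
      have hi' := Finset.mem_range.1 hi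
      rw [show j - i = (j - i - 1) + 1 by omega, pow_succ, Module.End.mul_apply, hz]
      simp

theorem eq_zero_of_nilpotent_sq_eq {D : Module.End F A} (hD : IsNilpotent D) {w : A} (hw : w ≠ 0)
    {c : F} (h : D (D w) = c • w) : c = 0 := by
  obtain ⟨n, hn⟩ := hD
  have key : ∀ k : ℕ, (D ^ (2 * k)) w = c ^ k • w := by
    intro k
    induction k with
    | zero => simp
    | succ k ih =>
      rw [show 2 * (k + 1) = 2 * k + 1 + 1 by ring, pow_succ, pow_succ, Module.End.mul_apply,
        Module.End.mul_apply, h, map_smul, ih, smul_smul, pow_succ']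
  have h1 := key n
  rw [pow_eq_zero_of_le (by omega) hn, LinearMap.zero_apply, eq_comm, smul_eq_zero] at h1
  exact pow_eq_zero_iff'.1 (h1.resolve_right hw) |>.1

theorem pow_apply_of_cube_eq_zero (h2 : (2 : F) ≠ 0) (U : Module.End F A) {z : A}
    (hz : (U - 1) ((U - 1) ((U - 1) z)) = 0) (s : ℕ) :
    (U ^ s) z = z + (s : F) • (U - 1) z + ((s : F) * (s - 1) / 2) • (U - 1) ((U - 1) z) := by
  set T := U - 1 with hT
  have hU : ∀ w, U w = w + T w := fun w => by simp [hT]
  induction s with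
  | zero => simp
  | succ s ih =>
    rw [pow_succ', Module.End.mul_apply, ih, hU]
    simp only [map_add, map_smul, hz, smul_zero, add_zero]
    have e : ((s + 1 : ℕ) : F) * (((s + 1 : ℕ) : F) - 1) / 2 = (s : F) * (s - 1) / 2 + s := by
      push_cast; field_simp; ring
    rw [e, Nat.cast_succ]
    module

end nilp

section rep
variable {F : Type v} [Field F] {p : ℕ} [hp : Fact p.Prime] [CharP F p]
  {G : Type u} [Group G] [Finite G] {A : Type w} [AddCommGroup A] [Module F A]
  (σ : G →* Module.End F A) (P : Sylow p G) (hP : Nat.card P = p) {u : G}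
  (hu : u ∈ (P : Subgroup G)) (hu1 : u ≠ 1)

include hP hu hu1 in
/-- in the module generated by a semi-invariant of the normalizer, the fixed vectors of the Sylow
subgroup are the multiples of the semi-invariant -/
theorem exists_eq_smul_of_semiInvariant (hT : (σ u - 1) ^ (p - 1) = 0) {x : A} (hx0 : x ≠ 0)
    (hx : σ u x = x)
    (hN : ∀ n ∈ Subgroup.normalizer ((P : Subgroup G) : Set G), ∃ c : F, σ n x = c • x) {z : A}
    (hz : z ∈ Submodule.span F (Set.range fun g => σ g x)) (hz' : σ u z = z) :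
    ∃ c : F, z = c • x := by
  classical
  have := Fintype.ofFinite G
  have := Fintype.ofFinite (G ⧸ (P : Subgroup G))
  set T := σ u - 1 with hTdef
  obtain ⟨π, l, hc, hπT, hπx⟩ :=
    exists_comm_end_fixed T (x := x) (by simp [hTdef, hx]) (k := p - 1) (by simpa [hT] using hx0)
  have hPu := eq_zpowers_of_card_prime hP hu hu1
  have hpow : ∀ a ∈ (P : Subgroup G), ∃ i : ℕ, a = u ^ i := fun a ha => by
    have := hPu.le ha
    rw [← mem_powers_iff_mem_zpowers] at this
    obtain ⟨i, hi⟩ := this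
    exact ⟨i, hi.symm⟩
  have hfix : ∀ z, σ u z = z → ∀ i : ℕ, σ (u ^ i) z = z := by
    intro z hz i
    induction i with
    | zero => simp
    | succ i ih => rw [pow_succ, map_mul, Module.End.mul_apply, hz, ih]
  have hπU : Commute π (σ u) := by
    have : σ u = T + 1 := by simp [hTdef]
    rw [this]
    exact Commute.add_right hπT (Commute.one_right _)
  let τ := endConjRep σ
  have hτ : ∀ g φ, τ g φ = σ g * (φ * σ g⁻¹) := fun _ _ => rfl
  have hπP : ∀ a ∈ (P : Subgroup G), τ a π = π := by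
    intro a ha
    obtain ⟨i, rfl⟩ := hpow a ha
    rw [hτ, ← mul_assoc, map_pow, ← (hπU.pow_right i).eq, ← map_pow, mul_assoc, ← map_mul]
    simp
  set E : Module.End F A := ∑ q : G ⧸ (P : Subgroup G), τ q.out π with hE
  have hEG : ∀ g, E * σ g = σ g * E := by
    intro g
    have h1 : τ g E = E := by
      rw [hE, map_sum]
      simp only [← apply_out_smul_eq τ hπP]
      exact Equiv.sum_comp (MulAction.toPerm g) fun q : G ⧸ (P : Subgroup G) => τ q.out π
    conv_lhs => rw [← h1, hτ, mul_assoc, mul_assoc, ← map_mul]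
    simp
  have hEz : ∀ z, σ u z = z → E z = ∑ q ∈ Finset.univ.filter (fun q : G ⧸ (P : Subgroup G) =>
      q.out ∈ Subgroup.normalizer ((P : Subgroup G) : Set G)), τ q.out π z := by
    intro z hz
    rw [hE, LinearMap.sum_apply]
    refine sum_quotient_eq_of_card_prime hP hu hu1 (fun q => τ q.out π z) fun q _ => ?_
    have h1 : ∀ i : ℕ, σ (u ^ i)⁻¹ z = z := by
      intro i
      conv_lhs => rw [← hfix z hz i, ← Module.End.mul_apply, ← map_mul]
      simp
    simp only [apply_out_smul_eq τ hπP, hτ (u ^ _), Module.End.mul_apply, h1]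
    simp only [map_pow]
    rw [← LinearMap.sum_apply, geom_sum_char_eq_sub_one_pow (F := F), hT]
    rfl
  set c' : F := ((Finset.univ.filter fun q : G ⧸ (P : Subgroup G) =>
      q.out ∈ Subgroup.normalizer ((P : Subgroup G) : Set G)).card : F) * l x with hc'
  have hc0 : c' ≠ 0 := mul_ne_zero (card_filter_out_mem_normalizer_ne_zero P hP hu hu1) hc
  have hEx : E x = c' • x := by
    rw [hEz x hx, Finset.sum_congr rfl (g := fun _ => l x • x), Finset.sum_const, hc', mul_smul,
      Nat.cast_smul_eq_nsmul]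
    intro q hq
    obtain ⟨d, hd⟩ := hN _ (Subgroup.inv_mem _ (Finset.mem_filter.1 hq).2)
    rw [hτ, Module.End.mul_apply, Module.End.mul_apply, hd, map_smul,
      hπx x (by simp [hTdef, hx]), smul_comm, ← hd, map_smul, ← Module.End.mul_apply, ← map_mul]
    simp
  have h1 : E z = c' • z := by
    clear hz'
    induction hz using Submodule.span_induction with
    | mem _ h =>
      obtain ⟨g, rfl⟩ := h
      rw [← Module.End.mul_apply, hEG, Module.End.mul_apply, hEx, map_smul]
    | zero => simp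
    | add a b _ _ ha hb => rw [map_add, ha, hb, smul_add]
    | smul c a _ ha => rw [map_smul, ha, smul_comm]
  have h2 : E z ∈ Submodule.span F {x} := by
    rw [hEz z hz']
    refine Submodule.sum_mem _ fun q hq => ?_
    have hn := (Finset.mem_filter.1 hq).2
    obtain ⟨i, hi⟩ := hpow (q.out * u * q.out⁻¹) ((Subgroup.mem_normalizer_iff.1 hn u).1 hu)
    obtain ⟨d, hd⟩ := hN _ hn
    have h3 : T (σ q.out⁻¹ z) = 0 := by
      have h4 : u * q.out⁻¹ = q.out⁻¹ * u ^ i := by rw [← hi]; group
      rw [hTdef, LinearMap.sub_apply, ← Module.End.mul_apply, ← map_mul, h4, map_mul,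
        Module.End.mul_apply, hfix z hz', Module.End.one_apply, sub_self]
    rw [hτ, Module.End.mul_apply, Module.End.mul_apply, hπx _ h3, map_smul, hd]
    exact Submodule.smul_mem _ _ (Submodule.smul_mem _ _ (Submodule.mem_span_singleton_self x))
  obtain ⟨a, ha⟩ := Submodule.mem_span_singleton.1 h2
  exact ⟨c'⁻¹ * a, by rw [mul_smul, ha, h1, inv_smul_smul₀ hc0]⟩

end rep

section field
variable {F : Type v} [Field F] {p : ℕ} [hp : Fact p.Prime] [CharP F p]

theorem sum_smul_pow_eq_zero {A : Type w} [Ring A] [Algebra F A] {U : A}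
    (hU : (U - 1) ^ (p - 2) = 0) : ∑ i ∈ Finset.range p, (i : F) • U ^ i = 0 := by
  have h := geom_sum_char_eq_sub_one_pow (F := F) (p := p) (X : F[X])
  have h1 := congrArg (fun f => aeval U (X * derivative f)) h
  simp only [derivative_pow, derivative_X,
    derivative_one, Finset.mul_sum, map_sum, map_mul, map_pow, map_sub, aeval_X, aeval_C,
    map_one] at h1
  rw [show p - 1 - 1 = p - 2 from rfl, hU, mul_zero, zero_mul, mul_zero] at h1
  rw [← h1]
  refine Finset.sum_congr rfl fun i _ => ?_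
  rcases i with _ | i
  · simp
  · rw [← Algebra.smul_def, Nat.add_sub_cancel, pow_succ']
    simp

end field

section main
variable {F : Type v} [Field F] {p : ℕ} [hp : Fact p.Prime] [CharP F p]
  {G : Type u} [Group G] [Finite G] {V : Type w} [AddCommGroup V] [Module F V]

theorem two_ne_zero_of_char (h2 : p ≠ 2) : (2 : F) ≠ 0 := by
  intro h
  have : p ∣ 2 := (CharP.cast_eq_zero_iff F p 2).1 (by exact_mod_cast h)
  exact h2 ((Nat.prime_dvd_prime_iff_eq hp.out Nat.prime_two).1 this)

theorem endConjRep_mul (ρ : G →* Module.End F V) (g : G) (a b : Module.End F V) :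
    endConjRep ρ g (a * b) = endConjRep ρ g a * endConjRep ρ g b := by
  have h : ρ g⁻¹ * ρ g = 1 := by rw [← map_mul]; simp
  simp only [endConjRep_apply, mul_assoc]
  rw [← mul_assoc (ρ g⁻¹), h, one_mul]

theorem pseudoLog_commutator (ρ : G →* Module.End F V) (h2 : p ≠ 2) {u : G}
    (hm : (ρ u - 1) ^ (p - 2) = 0) {z : Module.End F V}
    (hz : (endConjRep ρ u - 1) ((endConjRep ρ u - 1) ((endConjRep ρ u - 1) z)) = 0) :
    pseudoLog F p (ρ u) * z - z * pseudoLog F p (ρ u) =
      (2 : F)⁻¹ • (endConjRep ρ u - 1) ((endConjRep ρ u - 1) z) - (endConjRep ρ u - 1) z := by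
  have h2' := two_ne_zero_of_char (F := F) h2
  have h1 := pow_apply_of_cube_eq_zero h2' (endConjRep ρ u) hz
  generalize (endConjRep ρ u - 1) ((endConjRep ρ u - 1) z) = b at h1 ⊢
  generalize (endConjRep ρ u - 1) z = a at h1 ⊢
  have h3 : ∀ s : ℕ, ρ u ^ s * z =
      (z + (s : F) • a + ((s : F) * (s - 1) / 2) • b) * ρ u ^ s := by
    intro s
    rw [← h1, ← map_pow, ← map_pow, endConjRep_apply, mul_assoc, mul_assoc, ← map_mul]
    simp
  have h4 := geom_sum_char_eq_sub_one_pow (F := F) (p := p) (ρ u)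
  rw [pow_eq_zero_of_le (by omega) hm] at h4
  have h5 := sum_smul_pow_eq_zero (F := F) hm
  unfold pseudoLog
  rw [sum_zmod_eq_sum_range (fun s => ((s : F))⁻¹ • ρ u ^ s), Finset.sum_mul, Finset.mul_sum,
    ← Finset.sum_sub_distrib]
  obtain ⟨n, hn⟩ : ∃ n, p = n + 1 := ⟨p - 1, by have := hp.out.two_le; omega⟩
  have h6 : ∀ s ∈ Finset.range p, ((s : F))⁻¹ • ρ u ^ s * z - z * ((s : F))⁻¹ • ρ u ^ s =
      (a - (2 : F)⁻¹ • b) * ρ u ^ s + (2 : F)⁻¹ • b * ((s : F) • ρ u ^ s) -
        if s = 0 then a - (2 : F)⁻¹ • b else 0 := by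
    intro s hs
    split_ifs with h
    · simp [h]
    · have h7 : (s : F) ≠ 0 := by
        rw [Ne, CharP.cast_eq_zero_iff F p]
        exact Nat.not_dvd_of_pos_of_lt (Nat.pos_of_ne_zero h) (Finset.mem_range.1 hs)
      rw [smul_mul_assoc, h3]
      simp only [add_mul, sub_mul, smul_mul_assoc, mul_smul_comm, smul_add, smul_smul]
      rw [inv_mul_cancel₀ h7, show (s : F)⁻¹ * (s * (s - 1) / 2) = s * 2⁻¹ - 2⁻¹ by
        field_simp]
      module
  rw [Finset.sum_congr rfl h6, Finset.sum_sub_distrib, Finset.sum_add_distrib, ← Finset.mul_sum,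
    ← Finset.mul_sum, h4, h5, Finset.sum_ite_eq', if_pos (Finset.mem_range.2 hp.out.pos)]
  simp

theorem IsNilpotent.endConjRep (ρ : G →* Module.End F V) (g : G) {a : Module.End F V}
    (h : IsNilpotent a) : IsNilpotent (endConjRep ρ g a) := by
  obtain ⟨n, hn⟩ := h
  have key : ∀ k : ℕ, Cfsg.endConjRep ρ g a ^ (k + 1) = Cfsg.endConjRep ρ g (a ^ (k + 1)) := by
    intro k
    induction k with
    | zero => simp
    | succ k ih => rw [pow_succ, ih, ← endConjRep_mul, ← pow_succ]
  exact ⟨n + 1, by rw [key, pow_succ, hn, zero_mul, map_zero]⟩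

theorem eq_zero_of_ad_ad {y h : Module.End F V} (hy : IsNilpotent y) (h0 : h ≠ 0) {c : F}
    (hc : y * (y * h - h * y) - (y * h - h * y) * y = c • h) : c = 0 :=
  eq_zero_of_nilpotent_sq_eq (D := LinearMap.mulLeft F y - LinearMap.mulRight F y)
    (Commute.isNilpotent_sub (LinearMap.ext fun a => by simp [mul_assoc])
      ((LinearMap.isNilpotent_mulLeft_iff F y).2 hy) ((LinearMap.isNilpotent_mulRight_iff F y).2 hy))
    h0 hc

/-- a faithful module on which a Sylow subgroup of order `p` has small Jordan blocks -/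
structure SmallMod (ρ : G →* Module.End F V) (P : Sylow p G) (u : G) (m : ℕ) : Prop where
  inj : Function.Injective ρ
  card : Nat.card P = p
  mem : u ∈ (P : Subgroup G)
  ne : u ≠ 1
  nil : (ρ u - 1) ^ m = 0
  lt : 2 * m < p

namespace SmallMod

variable {ρ : G →* Module.End F V} {P : Sylow p G} {u : G} {m : ℕ} (H : SmallMod ρ P u m)
include H

theorem map_ne : ρ u ≠ 1 := fun h => H.ne (H.inj (h.trans (map_one ρ).symm))

theorem five_le : 5 ≤ p := by
  have h1 := H.lt
  have h2 : ¬ m ≤ 1 := fun h => H.map_ne (by simpa [sub_eq_zero] using pow_eq_zero_of_le h H.nil)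
  omega

theorem pow_eq : u ^ p = 1 := by
  rw [← orderOf_eq_of_card_prime H.card H.mem H.ne, pow_orderOf_eq_one]

theorem nilpotent_log : IsNilpotent (pseudoLog F p (ρ u)) := by
  obtain ⟨R, -, hlog⟩ := exists_pseudoLog_eq.{v, w} (F := F) (p := p) (by have := H.five_le; omega)
  rw [hlog, map_mul, aeval_X]
  refine Commute.isNilpotent_mul_right ?_ ⟨m, H.nil⟩
  simpa only [aeval_X] using (Commute.all X R).map (aeval (R := F) (ρ u - 1))

theorem semi {n : G} (hn : n ∈ Subgroup.normalizer ((P : Subgroup G) : Set G)) :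
    ∃ j : ℕ, n * u * n⁻¹ = u ^ j ∧
      endConjRep ρ n (pseudoLog F p (ρ u)) = (j : F) • pseudoLog F p (ρ u) := by
  have h5 := (eq_zpowers_of_card_prime H.card H.mem H.ne).le
    ((Subgroup.mem_normalizer_iff.1 hn u).1 H.mem)
  rw [← mem_powers_iff_mem_zpowers] at h5
  obtain ⟨j, hj⟩ := h5
  refine ⟨j, hj.symm, ?_⟩
  rw [endConjRep_pseudoLog, ← hj, map_pow, pseudoLog_pow (by rw [← map_pow, H.pow_eq, map_one])]
  rintro ⟨c, rfl⟩
  simp only [pow_mul, H.pow_eq, one_pow] at hj
  exact H.ne (by simpa using hj.symm)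

theorem mem_of_commute {g : G}
    (h : Commute (endConjRep ρ g (pseudoLog F p (ρ u))) (pseudoLog F p (ρ u))) :
    g ∈ Subgroup.normalizer ((P : Subgroup G) : Set G) := by
  obtain ⟨R, hR, hlog⟩ := exists_pseudoLog_eq.{v, w} (F := F) (p := p) (by have := H.five_le; omega)
  nth_rw 2 [hlog] at h
  have h1 := (commute_of_commute_aeval_X_mul H.nil (by rw [hR]; simp) h).symm
  rw [endConjRep_pseudoLog, hlog] at h1
  have h2 : (ρ (g * u * g⁻¹) - 1) ^ m = 0 := by
    have h4 : ρ g * ρ g⁻¹ = 1 := by rw [← map_mul]; simp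
    have h5 : SemiconjBy (ρ g) (ρ u - 1) (ρ (g * u * g⁻¹) - 1) := by
      rw [SemiconjBy, mul_sub, sub_mul, ← map_mul, ← map_mul]; simp
    have h6 := (h5.pow_right m).eq
    rw [H.nil, mul_zero] at h6
    have h7 := congrArg (· * ρ g⁻¹) h6
    simpa only [zero_mul, mul_assoc, h4, mul_one] using h7.symm
  have h3 := commute_of_commute_aeval_X_mul h2 (by rw [hR]; simp) h1
  have h4 : Commute (ρ u) (ρ (g * u * g⁻¹)) := by
    have := (h3.add_left (Commute.one_left _)).add_right (Commute.one_right _)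
    simpa using this
  rw [← Subgroup.inv_mem_iff]
  refine mem_normalizer_of_conj_mem_of_card_prime H.card H.mem H.ne ?_
  rw [inv_inv]
  refine mem_sylow_of_commute_of_card_prime P H.card H.mem H.ne ?_ (H.inj (by
    rw [map_mul, map_mul ρ _ u]; exact h4))
  refine IsPGroup.of_card (n := 1) ?_
  rw [Nat.card_zpowers, pow_one, ← orderOf_eq_of_card_prime H.card H.mem H.ne]
  exact MulEquiv.orderOf_eq (MulAut.conj g) u

omit H in
/-- the span of the conjugates of the logarithm -/
def lieSpan (p : ℕ) [Fact p.Prime] (ρ : G →* Module.End F V) (u : G) :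
    Submodule F (Module.End F V) :=
  Submodule.span F (Set.range fun g => endConjRep ρ g (pseudoLog F p (ρ u)))

omit H in
theorem mem_lieSpan (g : G) : endConjRep ρ g (pseudoLog F p (ρ u)) ∈ lieSpan p ρ u :=
  Submodule.subset_span ⟨g, rfl⟩

omit H in
theorem conj_mem_lieSpan (g : G) {z : Module.End F V} (hz : z ∈ lieSpan p ρ u) :
    endConjRep ρ g z ∈ lieSpan p ρ u := by
  induction hz using Submodule.span_induction with
  | mem _ h =>
    obtain ⟨a, rfl⟩ := h
    rw [← Module.End.mul_apply, ← map_mul]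
    exact mem_lieSpan _
  | zero => simp
  | add a b _ _ ha hb => rw [map_add]; exact add_mem ha hb
  | smul c a _ ha => rw [map_smul]; exact Submodule.smul_mem _ _ ha

omit H in
theorem sub_one_mem_lieSpan {z : Module.End F V} (hz : z ∈ lieSpan p ρ u) :
    (endConjRep ρ u - 1) z ∈ lieSpan p ρ u :=
  sub_mem (conj_mem_lieSpan u hz) hz

theorem cube {z : Module.End F V} (hz : z ∈ lieSpan p ρ u) :
    (endConjRep ρ u - 1) ((endConjRep ρ u - 1) ((endConjRep ρ u - 1) z)) = 0 := by
  induction hz using Submodule.span_induction with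
  | mem _ h =>
    obtain ⟨a, rfl⟩ := h
    simpa only [pow_succ, pow_zero, one_mul, Module.End.mul_apply] using
      cube_apply_pseudoLog ρ P H.card H.mem H.map_ne H.nil H.lt a
  | zero => simp
  | add a b _ _ ha hb => rw [map_add, map_add, map_add, ha, hb, add_zero]
  | smul c a _ ha => rw [map_smul, map_smul, map_smul, ha, smul_zero]

theorem log_ne_zero {g : G} (hg : g ∉ Subgroup.normalizer ((P : Subgroup G) : Set G)) :
    pseudoLog F p (ρ u) ≠ 0 := fun h => hg (H.mem_of_commute (h ▸ Commute.zero_right _))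

theorem conj_log : endConjRep ρ u (pseudoLog F p (ρ u)) = pseudoLog F p (ρ u) := by
  rw [endConjRep_pseudoLog]; simp

theorem fixed (h0 : pseudoLog F p (ρ u) ≠ 0) {z : Module.End F V} (hz : z ∈ lieSpan p ρ u)
    (h : (endConjRep ρ u - 1) z = 0) : ∃ c : F, z = c • pseudoLog F p (ρ u) :=
  exists_eq_smul_of_semiInvariant (endConjRep ρ) P H.card H.mem H.ne
    (endConjRep_sub_one_pow_eq_zero ρ H.nil (by have := H.lt; omega)) h0 H.conj_log
    (fun n hn => let ⟨j, _, hj⟩ := H.semi hn; ⟨j, hj⟩) hz (by simpa [sub_eq_zero] using h)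

theorem commutator {z : Module.End F V} (hz : z ∈ lieSpan p ρ u) :
    pseudoLog F p (ρ u) * z - z * pseudoLog F p (ρ u) =
      (2 : F)⁻¹ • (endConjRep ρ u - 1) ((endConjRep ρ u - 1) z) - (endConjRep ρ u - 1) z :=
  pseudoLog_commutator ρ (by have := H.five_le; omega)
    (pow_eq_zero_of_le (by have := H.lt; have := H.five_le; omega) H.nil) (H.cube hz)

theorem ad_ad {z : Module.End F V} (hz : z ∈ lieSpan p ρ u) :
    pseudoLog F p (ρ u) * (pseudoLog F p (ρ u) * z - z * pseudoLog F p (ρ u)) -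
      (pseudoLog F p (ρ u) * z - z * pseudoLog F p (ρ u)) * pseudoLog F p (ρ u) =
      (endConjRep ρ u - 1) ((endConjRep ρ u - 1) z) := by
  have h1 := sub_one_mem_lieSpan hz
  rw [H.commutator hz, H.commutator (sub_mem (Submodule.smul_mem _ _ (sub_one_mem_lieSpan h1)) h1)]
  simp only [map_sub (endConjRep ρ u - 1), map_smul, H.cube hz, smul_zero, zero_sub,
    map_neg, neg_zero, neg_neg]

/-- the logarithms of two different Sylow subgroups generate `sl₂` -/
theorem exists_sl2 {g : G} (hg : g ∉ Subgroup.normalizer ((P : Subgroup G) : Set G))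
    {x y h : Module.End F V} (hx : x = pseudoLog F p (ρ u)) (hy : y = endConjRep ρ g x)
    (hh : h = x * y - y * x) : ∃ κ : F, κ ≠ 0 ∧ h ≠ 0 ∧
      (endConjRep ρ u - 1) ((endConjRep ρ u - 1) y) = κ • x ∧ x * h - h * x = κ • x ∧
        h * y - y * h = κ • y := by
  have h0 := H.log_ne_zero hg
  have hym : y ∈ lieSpan p ρ u := by rw [hy, hx]; exact mem_lieSpan g
  have hh0 : h ≠ 0 := fun h1 => hg (H.mem_of_commute (by
    rw [← hx, ← hy]
    exact (sub_eq_zero.1 (hh ▸ h1)).symm))
  obtain ⟨κ, hκ⟩ := H.fixed h0 (sub_one_mem_lieSpan (sub_one_mem_lieSpan hym)) (H.cube hym)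
  have h1 := H.ad_ad hym
  rw [hκ, ← hx, ← hh] at h1
  have hym' := mem_lieSpan (p := p) (ρ := ρ) (u := u) g⁻¹
  obtain ⟨κ', hκ'⟩ := H.fixed h0 (sub_one_mem_lieSpan (sub_one_mem_lieSpan hym')) (H.cube hym')
  have h2 := congrArg (endConjRep ρ g) ((H.ad_ad hym').trans hκ')
  simp only [map_sub, map_smul, endConjRep_mul] at h2
  rw [← Module.End.mul_apply (endConjRep ρ g), ← map_mul, mul_inv_cancel, map_one,
    Module.End.one_apply, ← hx, ← hy] at h2
  have h3 : h * y - y * h = κ' • y := by rw [← h2, hh]; noncomm_ring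
  have h4 : κ' = κ := by
    have h5 : (κ' - κ) • h = 0 := by
      have h6 : x * (h * y - y * h) - (h * y - y * h) * x + (y * (x * h - h * x) -
          (x * h - h * x) * y) = 0 := by rw [hh]; noncomm_ring
      rw [h1, h3] at h6
      rw [← h6, hh]
      simp only [mul_smul_comm, smul_mul_assoc]
      module
    exact sub_eq_zero.1 ((smul_eq_zero.1 h5).resolve_right hh0)
  refine ⟨κ, fun h5 => ?_, hh0, hx ▸ hκ, h1, h4 ▸ h3⟩
  rw [h5, zero_smul] at hκ
  obtain ⟨c, hc⟩ := H.fixed h0 (sub_one_mem_lieSpan hym) hκ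
  have h6 := H.commutator hym
  rw [hκ, hc, ← hx, ← hh, smul_zero, zero_sub] at h6
  have h7 : y * x - x * y = c • x := by rw [← neg_sub, ← hh, h6, neg_neg]
  have h8 : c * c = 0 := eq_zero_of_ad_ad (y := y) (h := x)
    (hy ▸ hx ▸ IsNilpotent.endConjRep ρ g H.nilpotent_log) (hx ▸ h0) (by
      rw [h7, mul_smul_comm, smul_mul_assoc, ← smul_sub, h7, smul_smul])
  rw [mul_self_eq_zero.1 h8, zero_smul, neg_zero] at h6
  exact hh0 h6

theorem commute_of_swap {w : G} (hw : w ∉ Subgroup.normalizer ((P : Subgroup G) : Set G))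
    (hw2 : w * w ∈ Subgroup.normalizer ((P : Subgroup G) : Set G)) : Commute (w * w) u := by
  obtain ⟨κ, h1, -, -, h2, h3⟩ := H.exists_sl2 hw rfl rfl rfl
  obtain ⟨j, hj, h4⟩ := H.semi hw2
  have h5 := congrArg (endConjRep ρ w) h2
  simp only [map_sub, map_smul, endConjRep_mul] at h5
  rw [← Module.End.mul_apply (endConjRep ρ w), ← map_mul, h4] at h5
  have h0 : endConjRep ρ w (pseudoLog F p (ρ u)) ≠ 0 := fun h =>
    hw (H.mem_of_commute (h ▸ Commute.zero_left _))
  generalize endConjRep ρ w (pseudoLog F p (ρ u)) = y at h3 h5 h0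
  generalize pseudoLog F p (ρ u) = x at h3 h5
  have h6 : (j : F) • κ • y = κ • y := by
    rw [← h3]
    nth_rw 2 [h3]
    rw [← h5]
    simp only [mul_sub, sub_mul, mul_smul_comm, smul_mul_assoc, smul_sub, mul_assoc]
    abel
  rw [smul_smul, ← sub_eq_zero, ← sub_smul, smul_eq_zero, or_iff_left h0, ← sub_one_mul,
    mul_eq_zero, or_iff_left h1, sub_eq_zero] at h6
  have h7 : j ≡ 1 [MOD p] := (CharP.natCast_eq_natCast F p).1 (by rw [h6, Nat.cast_one])
  rw [pow_eq_pow_mod _ H.pow_eq, h7, ← pow_eq_pow_mod _ H.pow_eq, pow_one,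
    mul_inv_eq_iff_eq_mul] at hj
  exact hj

theorem exists_pow_mul_mem (hF : ∀ c : F, ∃ s : ℕ, c = s) {g g' : G}
    (hg : g ∉ Subgroup.normalizer ((P : Subgroup G) : Set G))
    (hg' : g' ∉ Subgroup.normalizer ((P : Subgroup G) : Set G)) :
    ∃ s : ℕ, g⁻¹ * (u ^ s * g') ∈ Subgroup.normalizer ((P : Subgroup G) : Set G) := by
  obtain ⟨κ, h1, hh0, h2, h3, h4⟩ := H.exists_sl2 hg rfl rfl rfl
  obtain ⟨κ', h1', -, h2', -, -⟩ := H.exists_sl2 hg' rfl rfl rfl
  have h0 := H.log_ne_zero hg
  have h2F := two_ne_zero_of_char (F := F) (p := p) (by have := H.five_le; omega)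
  have hy := mem_lieSpan (p := p) (ρ := ρ) (u := u) g
  have hz := mem_lieSpan (p := p) (ρ := ρ) (u := u) g'
  have hTx : (endConjRep ρ u - 1) (pseudoLog F p (ρ u)) = 0 := by simp [H.conj_log]
  obtain ⟨b, hb⟩ := H.fixed h0 (sub_one_mem_lieSpan (sub_mem (Submodule.smul_mem _ κ hz)
    (Submodule.smul_mem _ κ' hy))) (by
      simp only [map_sub (endConjRep ρ u - 1), map_smul, h2, h2', smul_smul, mul_comm, sub_self])
  obtain ⟨s, hs⟩ := hF (-b / κ / κ')
  have h5 := pow_apply_of_cube_eq_zero h2F (endConjRep ρ u) (H.cube hz) s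
  rw [← map_pow, ← Module.End.mul_apply, ← map_mul, h2'] at h5
  have hz' := mem_lieSpan (p := p) (ρ := ρ) (u := u) (u ^ s * g')
  obtain ⟨a, ha⟩ := H.fixed h0 (sub_mem (Submodule.smul_mem _ κ hz')
    (Submodule.smul_mem _ κ' hy)) (by
      rw [h5]
      simp only [map_sub (endConjRep ρ u - 1), map_add, map_smul, h2', hTx, smul_zero,
        add_zero] at hb ⊢
      rw [smul_add, add_sub_right_comm, hb, smul_smul, smul_smul, ← hs, ← add_smul,
        show b + κ * (-b / κ / κ') * κ' = 0 by field_simp; ring, zero_smul])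
  have hn := IsNilpotent.endConjRep ρ (u ^ s * g') H.nilpotent_log
  have hcomm : Commute (endConjRep ρ (u ^ s * g') (pseudoLog F p (ρ u)))
      (endConjRep ρ g (pseudoLog F p (ρ u))) := by
    generalize endConjRep ρ (u ^ s * g') (pseudoLog F p (ρ u)) = z at ha hn
    generalize endConjRep ρ g (pseudoLog F p (ρ u)) = y at ha h3 h4 hh0
    generalize pseudoLog F p (ρ u) = x at ha h3 h4 hh0
    have h6 : z = (κ⁻¹ * κ') • y + (κ⁻¹ * a) • x := by
      rw [mul_smul, mul_smul, ← smul_add, ← ha, add_sub_cancel, inv_smul_smul₀ h1]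
    generalize hc : κ⁻¹ * κ' = c at h6
    generalize κ⁻¹ * a = d at h6
    have hc0 : c ≠ 0 := hc ▸ mul_ne_zero (inv_ne_zero h1) h1'
    have h7 : z * (x * y - y * x) - (x * y - y * x) * z = (d * κ) • x - (c * κ) • y := by
      rw [mul_smul, mul_smul, ← h3, ← h4, h6]
      simp only [add_mul, mul_add, mul_smul_comm, smul_mul_assoc, smul_sub]
      abel
    have h8 : -(2 * c * d * κ) = 0 := eq_zero_of_ad_ad hn hh0 (by
      rw [h7, h6]
      simp only [add_mul, mul_add, mul_sub, sub_mul, mul_smul_comm, smul_mul_assoc]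
      module)
    have h9 : d = 0 := by simpa [h2F, hc0, h1] using h8
    rw [h6, h9, zero_smul, add_zero]
    exact (Commute.refl y).smul_left c
  refine ⟨s, H.mem_of_commute ?_⟩
  have h6 := congrArg (endConjRep ρ g⁻¹) hcomm.eq
  rw [endConjRep_mul, endConjRep_mul, ← Module.End.mul_apply (endConjRep ρ g⁻¹),
    ← Module.End.mul_apply (endConjRep ρ g⁻¹), ← map_mul, ← map_mul, inv_mul_cancel, map_one,
    Module.End.one_apply] at h6
  exact h6

end SmallMod

end main

end Cfsg
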